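/-!
# Notes on the three milestones without a file (S4014, S4152, S3503)

Comment only, imported by nothing.  Written by `lead` for whoever continues this library.  Nothing here is checked by Lean; the
S3503 part is one seat's paper argument.

## S4014 is false as written

`A = k = F_2(b,t)` (a field is a henselian local ring), `B_0 = k[x0,x1,x2]/(f)`, `f = x0^2 + t + x0 q(x1,x2)`,
`q = x1^2 + x1 x2 + b x2^2`, `P = (x1, x2)` (so `x0^2 + t` lies in `P`), `m = 1`.
* `B = (B_0)_P` is regular of dimension 2 with residue field `E = k(s)`, `s^2 = t`; over the algebraic closure the equation is
  `y^2 + (s + y) q` with `y = x0 + s`, an ordinary quadratic point of dimension 2 (necessarily a degenerate one).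
* For `z` in `B` lifting `s` the class of `z^2 - t` in `Sym^2(m/m^2)` modulo squares of linear forms does not depend on `z` and is a
  henselian invariant; here it is `s q`.  For a model `x0^2 + c + Q'(x1,x2)` over `k` with the same residue field it is a form
  `Q''` with coefficients in `k`.
* The (ungraded) Clifford algebra of a binary form only depends on the form modulo squares of linear forms in characteristic 2.
  So the quaternion algebra `[b, s)` over `E` would be the restriction of a quaternion algebra over `k`.  All preimages of
  `[b, s)` in `Br(k)` are `[(b, y), t)` (Witt vectors of length 2), and twice such a class is `[b, t)`, which is not zero (residue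
  `b` at `t = 0`, and `b` is not of the form `u^2 + u` in `F_2(b)`).  So no preimage has period 2.
* What is missing: `k` separably closed, or residue field of the point equal to `k`.

## S4152 is false as written

`S` the spectrum of a discrete valuation ring, `G = G_m`, `H` the Neron lft-model of `G_m` (separated, smooth, locally of finite type,
special fibre `G_m x Z`), `u` the inclusion of the identity component.  The second alternative of `hH` (locally noetherian base) lets
this through; `u` is an open immersion which is not closed, because `H` is irreducible.  With `H` of finite type the statement is fine.

## S3503: neither proved nor refuted

Notation.  `l` a prime of `L`, everything localised at `l`; `K_Q = K[1/l]`.  `Theta_V(K) = RGamma(V, h^* K)` for `V` quasi-compact open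
in `Y` (quasi-separated, for simplicity; `X` quasi-compact quasi-separated), `D_V(K) = cone(RGamma(X,K) -> Theta_V(K))`,
`Phi(K) = Rlim_V D_V(K) = cone(RGamma(X,K) -> RGamma(Y,h^* K))`.  `K` is good up to `q` if `Phi^i(K) = 0` for `i <= q`.
`CompN h L n` says that `L`-torsion sheaves are good up to `n`.

1. Formal facts.  `Rp_* Fb` is good up to `n` for `Fb` `L`-torsion (from `hhb` and `hbc`).  All sheaves killed by one integer are good
   up to `n` (induction over `F -> Rp_* p^* F`).  Every sheaf of sets satisfies the comparison in degree 0, so every abelian sheaf is
   good up to 0.  If `(Rp_* Fb)_Q` is good up to `n - 1` for all `L`-torsion `Fb`, then all `L`-torsion sheaves are good up to `n`: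
   compare `F` with the torsion part (derived) of `Rp_* p^* F`.  Call this hypothesis (*).  So only (*) is at stake; it holds
   trivially if `p` is quasi-compact quasi-separated, and if `X`, `Y` both are (then `RGamma` commutes with `[1/l]`), and for `n = 1`.
2. `Theta_V` commutes with direct sums; for `Xb` the disjoint union of quasi-compact pieces `p_d : Xb_d -> X`, `hbc` says that it
   commutes with the products of the `Rp_{d*} F_d`, `F_d` any `L`-torsion sheaves, in degrees `< n` (injective in degree `n`).
   So it also commutes with their reduced products and ultraproducts.
3. Finiteness.  Let `x` be a point near which infinitely many pieces accumulate along a countably incomplete ultrafilter, and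
   `C_x = Theta_V(i_{x*} Z)`, so that `Theta_V(i_{x*} M) = C_x (x) M`.  Comparing `M = ` the ultraproduct of `(Z/l^a)^{b(d)}`, `b(d)` going to
   infinity, on both sides (external against internal rank) gives: `H^q(C_x)` is finitely generated over `Z_(l)` for `q < n`, and
   `H^n(C_x)` has finite torsion.  For points as pieces use skyscraper sheaves, for larger pieces constant sheaves on them.
   In particular there are no rank-one counterexamples of the kind "a class divisible by `l^e(d)`, `e(d)` unbounded".
4. `p` = disjoint union of all geometric points, all `n`: (*) holds.  For each point `x` not isolated in the constructible topology there
   is a countably incomplete ultrafilter on the set of points converging to `x` (otherwise finitely many countably complete ones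
   generate the punctured neighbourhood filter; contradiction with resolvability of crowded compact spaces, or with infinitely many
   Cantor-Bendixson levels).  `i_{x*} M` is good up to `n` for every `l`-torsion `M`; as `D_V(i_{x*} Z)` is perfect in the range, the colimit
   over `V` of the duals is 0 (test with `Q_l/Z_l`), so `V |-> D_V(i_{x*} M)` is pro-zero, uniformly in `M`, in degrees `< n`.  By 2 it is
   then pro-zero uniformly on a member of each non-principal ultrafilter, and by compactness outside a finite set of points; so
   `V |-> D_V(prod_x i_{x*} M_x)_Q` is pro-zero in degrees `< n`, which is (*).  No set-theoretic assumption is used.
5. Larger pieces.  Let `T` be the closed set where the pieces `Xb_d`, `d` in `N`, accumulate and let `N(F_d)` be the reduced product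
   `prod_d / sum_d` restricted to `T`.  From 2 applied to `sum_{m <= d} G_{m,d}` one gets that `Theta_V` commutes with countable products of
   sheaves `N(..)`, and, since every `L`-torsion sheaf `T'` on `T` embeds into the union of the `N(T'[l^m])` with `L`-torsion quotient, with
   countable products of all `L`-torsion sheaves on `T` (degrees `< n`).  So `lim (T' <- T' <- ..)` (multiplication by `l`) is good up to
   `n - 1` for `T'` divisible `L`-torsion and good.  What is missing is the passage from there to all `N(F_d)_Q`: it has no embedding
   into a countable product of `L`-torsion sheaves in general (already on `T` = the remainder of beta N, where however 3 + 4 apply).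
6. Not treated: `Xb` not a disjoint union of quasi-compact pieces (then only locally finite families of closed subsets of `Xb` give
   product statements, and non-torsion classes come from derived limits over the quasi-compact opens of `Xb`).
7. With `p` quasi-compact and quasi-separated in the hypotheses (as in the plain-words line of the milestone) the formal induction
   of 1 proves the statement; the library for `EtBC.bcMap` on single sheaves is in `Groth/Agent/Etbc/H180` and its neighbours.
-/
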